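import Groth.Agent.Lib.FppfEt.Resolution

/-!
# Etale-local exactness of Cech complexes is stable under extensions
-/

set_option autoImplicit false

universe u

open CategoryTheory CategoryTheory.Limits AlgebraicGeometry Opposite

noncomputable section

namespace Groth.Agent.Lib.FppfMu.Ext

open Groth.Agent.Lib.FppfEt.Nerve Groth.Agent.Lib.FppfEt.LocAcyclic Groth.Agent.Lib.EtGerm.Univ

variable {X : Scheme.{u}} {S : ShortComplex (EtFppf.AbF X)}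

theorem LA_extension (hS : S.ShortExact) (hsurj : EtSurj S.g) (h₁ : LA S.X₁) (h₃ : LA S.X₃) :
    LA S.X₂ := by
  classical
  intro T V v hv n c hc t
  obtain ⟨T₁, V₁, v₁, φ₁, hv₁, he₁, ⟨t₁, ht₁⟩, b, hb⟩ :=
    h₃ T V v hv n (c ≫ S.g.hom) (by rw [← Category.assoc, hc, zero_comp]) t
  obtain ⟨P, hP⟩ := exists_pow (v := v₁) (n + 1) @IsFinite hv₁.finite
  have : IsFinite P.π.left := hP
  obtain ⟨T₂, g₂, hg₂, ⟨t₂, ht₂⟩, i, hi⟩ := exists_lift_finite hsurj P.π (evK b P.univ) t₁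
  let φ₂ := bc v₁ g₂
  let ψ : Kn (bcMap v₁ g₂) (n + 1) ⟶ S.X₂.obj := ofElemBC φ₂ P i
  have hψ : ψ ≫ S.g.hom = φ₂.kmap _ ≫ b := hom_ext_K fun Z s => by
    obtain ⟨h, h₁, h₂⟩ := exists_bc_classify φ₂ P s
    rw [evK_comp, evK_ofElemBC φ₂ P i s h h₁ h₂, φ₂.evK_kmap, ← h₂, evK_res]
    refine (NatTrans.naturality_apply S.g.hom h.op i).trans ?_
    refine (congrArg (S.X₃.obj.map h.op) hi).trans ?_
    exact map_map _ _ _ _
  let d : Kn (bcMap v₁ g₂) (n + 2) ⟶ S.X₂.obj :=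
    (φ₁.comp φ₂).kmap _ ≫ c - dv (bcMap v₁ g₂) n ≫ ψ
  have hd : d ≫ S.g.hom = 0 := by
    simp only [d, Preadditive.sub_comp, Category.assoc, hψ]
    rw [← Chg.kmap_comp, hb, ← φ₂.kmap_dv, sub_self]
  obtain ⟨a, ha⟩ := exists_lift_ker hS d hd
  have hd0 : dv (bcMap v₁ g₂) (n + 1) ≫ d = 0 := by
    simp only [d, Preadditive.comp_sub]
    rw [← Chg.kmap_dv, hc, comp_zero, zero_sub, neg_eq_zero, ← Category.assoc]
    exact (congrArg (· ≫ ψ) (CechPsh.Nerve.d_comp_d (Uf := Uf (bcMap v₁ g₂)) n)).trans zero_comp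
  have ha0 : dv (bcMap v₁ g₂) (n + 1) ≫ a = 0 := cancel_f hS _ (by
    rw [Category.assoc, ha, hd0])
  obtain ⟨T₃, V₃, v₃, φ₃, hv₃, he₃, ⟨t₃, ht₃⟩, b₁, hb₁⟩ :=
    h₁ T₂ _ (bcMap v₁ g₂) (hv₁.bc g₂) n a ha0 t₂
  refine ⟨T₃, V₃, v₃, (φ₁.comp φ₂).comp φ₃, hv₃, ?_, ⟨t₃, ?_⟩,
    φ₃.kmap _ ≫ ψ + b₁ ≫ S.f.hom, ?_⟩
  · change Etale (φ₃.g ≫ g₂ ≫ φ₁.g).left
    rw [Over.comp_left _ _ _ _ _, Over.comp_left _ _ _ _ _]
    have := he₃
    have : Etale g₂.left := hg₂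
    have := he₁
    exact (inferInstance : Etale (φ₃.g.left ≫ g₂.left ≫ φ₁.g.left))
  · change (φ₃.g ≫ g₂ ≫ φ₁.g).left.base t₃ = t
    rw [Over.comp_left _ _ _ _ _, Over.comp_left _ _ _ _ _, Scheme.Hom.comp_apply,
      Scheme.Hom.comp_apply, ht₃, ht₂, ht₁]
  · rw [← Chg.kmap_comp, Preadditive.comp_add, ← φ₃.kmap_dv, ← Category.assoc (dv v₃ n) b₁, ← hb₁,
      Category.assoc, ha]
    simp only [d, Preadditive.comp_sub]
    abel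

end Groth.Agent.Lib.FppfMu.Ext
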