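import Groth.Agent.Lib.FppfGm.Coh
import Groth.Agent.Lib.AlgSpFpqc.DescendSp
import Groth.Prelude.Def_EtDlF
import Groth.Prelude.Def_Frob
import Mathlib.RingTheory.AdjoinRoot
import Mathlib.RingTheory.Flat.FaithfullyFlat.Basic

/-!
# The `p`-th power on `G_m`: fppf surjective, etale injective on reduced schemes of characteristic `p`
-/

set_option autoImplicit false

universe u

open CategoryTheory CategoryTheory.Limits AlgebraicGeometry Opposite Polynomial

noncomputable section

namespace Groth.Agent.Lib.FppfMu.Pow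

variable {X : Scheme.{u}}

theorem nsmul_app {C : Type*} [Category C] {J : GrothendieckTopology C}
    (F : Sheaf J AddCommGrpCat.{u + 1}) (n : ℕ) (W : Cᵒᵖ) (x : F.obj.obj W) :
    (n • 𝟙 F : F ⟶ F).hom.app W x = n • x := by
  induction n with
  | zero => rw [zero_nsmul, zero_nsmul]; rfl
  | succ k ih => rw [succ_nsmul, succ_nsmul, ← ih]; rfl

/-- A monic equation of positive degree has a root on a finite flat cover. -/
theorem exists_cover {A : Type u} [CommRing A] (n : ℕ) (hn : 0 < n) (a : A) :
    ∃ (B : Type u) (_ : CommRing B) (_ : Algebra A B) (y : B), y ^ n = algebraMap A B a ∧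
      Flat (Spec.map (CommRingCat.ofHom (algebraMap A B))) ∧
      LocallyOfFinitePresentation (Spec.map (CommRingCat.ofHom (algebraMap A B))) ∧
      Function.Surjective (Spec.map (CommRingCat.ofHom (algebraMap A B))).base := by
  rcases subsingleton_or_nontrivial A with hA | hA
  · exact ⟨A, inferInstance, inferInstance, a, Subsingleton.elim _ _, by rw [Algebra.algebraMap_self]; exact inferInstanceAs (Flat (Spec.map (𝟙 (CommRingCat.of A)))), by rw [Algebra.algebraMap_self]; exact inferInstanceAs (LocallyOfFinitePresentation (Spec.map (𝟙 (CommRingCat.of A)))), fun x => ⟨x, Subsingleton.elim (α := PrimeSpectrum A) _ _⟩⟩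
  let f : A[X] := X ^ n - C a
  have hf : f.Monic := monic_X_pow_sub_C a hn.ne'
  have : Module.Finite A (AdjoinRoot f) := hf.finite_adjoinRoot
  have : Module.Free A (AdjoinRoot f) := hf.free_adjoinRoot
  refine ⟨AdjoinRoot f, inferInstance, inferInstance, AdjoinRoot.root f, ?_, ?_, ?_, ?_⟩
  · have h := AdjoinRoot.eval₂_root f
    simp only [f, eval₂_sub, eval₂_pow, eval₂_X, eval₂_C, sub_eq_zero] at h
    exact h
  · exact (HasRingHomProperty.Spec_iff (P := @Flat)).2 (RingHom.flat_algebraMap_iff.2 inferInstance)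
  · refine (HasRingHomProperty.Spec_iff (P := @LocallyOfFinitePresentation)).2 ?_
    exact RingHom.finitePresentation_algebraMap.2 inferInstance
  · have hpos : 0 < f.natDegree := by rw [natDegree_X_pow_sub_C]; exact hn
    have : Nontrivial (AdjoinRoot f) := ⟨⟨(AdjoinRoot.powerBasis' hf).basis ⟨0, hpos⟩, 0,
      (AdjoinRoot.powerBasis' hf).basis.ne_zero _⟩⟩
    intro x
    obtain ⟨q, hq⟩ := PrimeSpectrum.comap_surjective_of_faithfullyFlat (A := A) (B := AdjoinRoot f) x
    exact ⟨q, hq⟩

/-- The unit underlying a section of `G_m`. -/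
def unit {T : Over X} (x : (EtDl.GmF X).obj.obj (op T)) : Γ(T.left, ⊤)ˣ :=
  Additive.toMul (ULift.down x : Additive Γ(T.left, ⊤)ˣ)

theorem unit_injective {T : Over X} {x y : (EtDl.GmF X).obj.obj (op T)} (h : unit x = unit y) :
    x = y := ULift.ext _ _ (Additive.toMul.injective h)

theorem unit_nsmul {T : Over X} (n : ℕ) (x : (EtDl.GmF X).obj.obj (op T)) :
    unit (n • x) = unit x ^ n := rfl

theorem unit_map {T T' : Over X} (g : T' ⟶ T) (x : (EtDl.GmF X).obj.obj (op T)) :
    (unit ((EtDl.GmF X).obj.map g.op x) : Γ(T'.left, ⊤)) = g.left.appTop (unit x) := rfl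

/-- Units have `n`-th roots fppf locally. -/
theorem epi_pow (n : ℕ) (hn : 0 < n) : Epi (n • 𝟙 (EtDl.GmF X)) := by
  have : Sheaf.IsLocallySurjective (n • 𝟙 (EtDl.GmF X)) := by
    refine ⟨fun {T} u => ?_⟩
    rw [GrothendieckTopology.mem_over_iff]
    choose U hU htU using fun t : T.left => T.left.isBasis_affineOpens.exists_subset_of_mem_open
      (Set.mem_univ t) isOpen_univ
    choose V hV hVU using hU
    let a : ∀ t, Γ(T.left, V t) := fun t =>
      T.left.presheaf.map (homOfLE le_top : V t ⟶ ⊤).op (unit u : Γ(T.left, ⊤))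
    choose B iB iA y hy hfl hlfp hsurj using fun t => exists_cover n hn (a t)
    let g : ∀ t, Spec (CommRingCat.of (B t)) ⟶ T.left := fun t =>
      Spec.map (CommRingCat.ofHom (algebraMap Γ(T.left, V t) (B t))) ≫ (hV t).fromSpec
    refine GrothendieckTopology.superset_covering _ ?_ (Precoverage.generate_mem_toGrothendieck
      (R := Presieve.ofArrows (fun t => Spec (CommRingCat.of (B t))) g)
      ((Scheme.ofArrows_mem_precoverage_iff _).2 ⟨fun t => ?_, fun t => ?_⟩))
    · rw [Sieve.generate_le_iff]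
      rintro Z _ ⟨t⟩
      let W : Over X := Over.mk (g t ≫ T.hom)
      let w : W ⟶ T := Over.homMk (g t) rfl
      refine (Sieve.overEquiv_iff _ (g t)).2 ?_
      let η : Γ(W.left, ⊤) := (Scheme.ΓSpecIso (CommRingCat.of (B t))).inv (y t)
      have hη : η ^ n = w.left.appTop (unit u : Γ(T.left, ⊤)) := by
        show ((Scheme.ΓSpecIso (CommRingCat.of (B t))).inv (y t)) ^ n = (g t).appTop (unit u)
        rw [← map_pow, hy]
        apply (Scheme.ΓSpecIso (CommRingCat.of (B t))).commRingCatIsoToRingEquiv.injective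
        simp only [g, Scheme.Hom.comp_appTop, CommRingCat.comp_apply]
        change (Scheme.ΓSpecIso _).hom ((Scheme.ΓSpecIso _).inv _) = (Scheme.ΓSpecIso _).hom _
        rw [Iso.inv_hom_id_apply, ← CommRingCat.comp_apply (g := (Scheme.ΓSpecIso _).hom),
          Scheme.ΓSpecIso_naturality, CommRingCat.comp_apply,
          show (hV t).fromSpec.appTop = T.left.presheaf.map (homOfLE le_top : V t ⟶ ⊤).op ≫
            (Scheme.ΓSpecIso Γ(T.left, V t)).inv from by
              rw [Scheme.Hom.appTop, IsAffineOpen.fromSpec_app_of_le (hV t) ⊤ le_top]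
              simp only [← Category.assoc]
              exact (congrArg (_ ≫ ·) ((Spec Γ(T.left, V t)).presheaf.map_id _)).trans (Category.comp_id _),
          CommRingCat.comp_apply]
        erw [Iso.inv_hom_id_apply]
        rfl
      have hηu : IsUnit η := by
        refine (isUnit_pow_iff hn.ne').mp (hη ▸ ?_)
        exact (unit u).isUnit.map w.left.appTop.hom
      refine ⟨(ULift.up (Additive.ofMul hηu.unit) : (EtDl.GmF X).obj.obj (op W)), ?_⟩
      refine (nsmul_app (EtDl.GmF X) n (op W) _).trans (unit_injective (Units.ext ?_))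
      change (hηu.unit ^ n : Γ(W.left, ⊤)ˣ).val = (unit ((EtDl.GmF X).obj.map w.op u)).val
      rw [Units.val_pow_eq_pow_val]
      exact hη.trans (unit_map w u).symm
    · have ht : t ∈ Set.range (hV t).fromSpec.base := by
        rw [(hV t).range_fromSpec]
        exact (hVU t).symm ▸ (htU t).1
      obtain ⟨q, hq⟩ := ht
      obtain ⟨r, hr⟩ := hsurj t q
      exact ⟨t, r, (congrArg (hV t).fromSpec.base hr).trans hq⟩
    · have := hfl t
      have := hlfp t
      have : IsOpenImmersion (hV t).fromSpec := (hV t).isOpenImmersion_fromSpec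
      have : Flat (hV t).fromSpec := inferInstance
      have : LocallyOfFinitePresentation (hV t).fromSpec := inferInstance
      exact ⟨inferInstanceAs (Flat (Spec.map _ ≫ (hV t).fromSpec)),
        inferInstanceAs (LocallyOfFinitePresentation (Spec.map _ ≫ (hV t).fromSpec))⟩
  exact (Sheaf.isLocallySurjective_iff_epi' _ _).1 this

variable (X) in
/-- The restriction of `G_m` to the small etale site. -/
def gmIso [EtFppf.ACont X] : (EtFppf.aPush X).obj (EtDl.GmF X) ≅ EtCoh.Gm X :=
  (fullyFaithfulSheafToPresheaf _ _).preimageIso (Iso.refl (EtCoh.Gm X).obj)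

theorem map_pow_comm [EtFppf.ACont X] (n : ℕ) :
    (EtFppf.aPush X).map (n • 𝟙 (EtDl.GmF X)) ≫ (gmIso X).hom = (gmIso X).hom ≫ EtCoh.powMap X n := by
  have : (EtFppf.aPush X).Additive := ⟨rfl⟩
  rw [Functor.map_nsmul, CategoryTheory.Functor.map_id, Preadditive.nsmul_comp, Category.id_comp,
    EtCoh.powMap, Preadditive.comp_nsmul, Category.comp_id]

/-- On a reduced scheme of characteristic `p` the `p`-th power is injective etale locally. -/
theorem mono_powMap (p : ℕ) [Fact p.Prime] [FrobSch.IsCharP X p] [IsReduced X] :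
    Mono (EtCoh.powMap X p) := by
  refine Sheaf.mono_of_injective _ fun W x y hxy => ?_
  obtain ⟨W⟩ := W
  have : Etale W.hom := W.prop
  have : IsReduced W.left :=
    @AlgSpFpqc.DescendSp.isReduced_of_smooth _ X W.hom inferInstance ‹IsReduced X›
  have h0 : (p : Γ(W.left, ⊤)) = 0 := by
    have := congrArg W.hom.appTop.hom (FrobSch.IsCharP.natCast_eq_zero (X := X) (p := p))
    rwa [map_natCast, map_zero] at this
  change (p • 𝟙 (EtCoh.Gm X) : EtCoh.Gm X ⟶ EtCoh.Gm X).hom.app (op W) x =
    (p • 𝟙 (EtCoh.Gm X) : EtCoh.Gm X ⟶ EtCoh.Gm X).hom.app (op W) y at hxy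
  rw [nsmul_app, nsmul_app] at hxy
  have h : (((ULift.down x : Additive Γ(W.left, ⊤)ˣ).toMul : Γ(W.left, ⊤))) ^ p =
      (((ULift.down y : Additive Γ(W.left, ⊤)ˣ).toMul : Γ(W.left, ⊤))) ^ p :=
    congrArg (fun z : (EtCoh.Gm X).obj.obj (op W) =>
      (((ULift.down z : Additive Γ(W.left, ⊤)ˣ).toMul : Γ(W.left, ⊤)))) hxy
  refine ULift.ext _ _ (Additive.toMul.injective (Units.ext ?_))
  rcases subsingleton_or_nontrivial Γ(W.left, ⊤) with _ | _
  · exact Subsingleton.elim (α := Γ(W.left, ⊤)) _ _
  have : CharP Γ(W.left, ⊤) p := CharP.charP_iff_prime_eq_zero Fact.out |>.2 h0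
  exact frobenius_inj Γ(W.left, ⊤) p h

end Groth.Agent.Lib.FppfMu.Pow
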