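import Mathlib.Algebra.Homology.DerivedCategory.Ext.ExactSequences
import Mathlib.Algebra.Homology.DerivedCategory.Ext.EnoughInjectives
import Mathlib.GroupTheory.QuotientGroup.Basic

/-!
# Dimension shifting along short exact sequences with an injective term
-/

set_option autoImplicit false

universe w v u

open CategoryTheory CategoryTheory.Limits CategoryTheory.Abelian

noncomputable section

namespace Groth.Agent.Lib.FppfMu.Shift

variable {C : Type u} [Category.{v} C] [Abelian C] [HasExt.{w} C]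
  {S : ShortComplex C} (hS : S.ShortExact) (X : C)

include hS in
theorem middle_injective [Injective S.X₂] (n : ℕ) :
    Nonempty (Ext.{w} X S.X₃ (n + 1) ≃+ Ext.{w} X S.X₁ (n + 2)) := by
  refine ⟨AddEquiv.ofBijective (hS.extClass.postcomp X (rfl : n + 1 + 1 = n + 2)) ⟨?_, fun y => ?_⟩⟩
  · refine (injective_iff_map_eq_zero _).2 fun x hx => ?_
    obtain ⟨y, rfl⟩ := Ext.covariant_sequence_exact₃ X hS x rfl hx
    rw [Ext.eq_zero_of_injective y, Ext.zero_comp]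
  · exact Ext.covariant_sequence_exact₁ X hS y (Ext.eq_zero_of_injective _) rfl

include hS in
theorem left_injective [Injective S.X₁] (n : ℕ) :
    Nonempty (Ext.{w} X S.X₂ (n + 1) ≃+ Ext.{w} X S.X₃ (n + 1)) := by
  refine ⟨AddEquiv.ofBijective ((Ext.mk₀ S.g).postcomp X (add_zero (n + 1))) ⟨?_, fun y => ?_⟩⟩
  · refine (injective_iff_map_eq_zero _).2 fun x hx => ?_
    obtain ⟨y, rfl⟩ := Ext.covariant_sequence_exact₂ X hS x hx
    rw [Ext.eq_zero_of_injective y, Ext.zero_comp]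
  · exact Ext.covariant_sequence_exact₃ X hS y (rfl : n + 1 + 1 = n + 2) (Ext.eq_zero_of_injective _)

include hS in
/-- In the first degree, `Ext¹` is the cokernel on homomorphisms. -/
theorem first [Injective S.X₂] :
    ∃ f : (X ⟶ S.X₃) →+ Ext.{w} X S.X₁ 1, Function.Surjective f ∧
      ∀ φ, f φ = 0 ↔ ∃ ψ : X ⟶ S.X₂, ψ ≫ S.g = φ := by
  refine ⟨(hS.extClass.postcomp X (zero_add 1)).comp Ext.addEquiv₀.symm.toAddMonoidHom,
    fun y => ?_, fun φ => ⟨fun h => ?_, ?_⟩⟩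
  · obtain ⟨x, hx⟩ := Ext.covariant_sequence_exact₁ X hS y (Ext.eq_zero_of_injective _) (zero_add 1)
    exact ⟨Ext.addEquiv₀ x, (congrArg (hS.extClass.postcomp X (zero_add 1))
      (Ext.addEquiv₀.symm_apply_apply x)).trans hx⟩
  · obtain ⟨x, hx⟩ := Ext.covariant_sequence_exact₃ X hS (Ext.mk₀ φ) (zero_add 1) h
    refine ⟨Ext.addEquiv₀ x, Ext.addEquiv₀.symm.injective ?_⟩
    change Ext.mk₀ (Ext.addEquiv₀ x ≫ S.g) = Ext.mk₀ φ
    rw [← Ext.mk₀_comp_mk₀, ← hx]
    exact congrArg (fun z => z.comp (Ext.mk₀ S.g) (add_zero 0)) (Ext.mk₀_homEquiv₀_apply x)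
  · rintro ⟨ψ, rfl⟩
    change (Ext.mk₀ (ψ ≫ S.g)).comp hS.extClass (zero_add 1) = 0
    rw [← Ext.mk₀_comp_mk₀, Ext.comp_assoc_of_second_deg_zero, hS.comp_extClass, Ext.comp_zero]

include hS in
/-- With an injective sub-object, `Ext⁰` of the quotient is a cokernel. -/
theorem zeroth [Injective S.X₁] :
    ∃ f : (X ⟶ S.X₂) →+ Ext.{w} X S.X₃ 0, Function.Surjective f ∧
      ∀ φ, f φ = 0 ↔ ∃ ψ : X ⟶ S.X₁, ψ ≫ S.f = φ := by
  refine ⟨((Ext.mk₀ S.g).postcomp X (add_zero 0)).comp Ext.addEquiv₀.symm.toAddMonoidHom,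
    fun y => ?_, fun φ => ⟨fun h => ?_, ?_⟩⟩
  · obtain ⟨x, hx⟩ := Ext.covariant_sequence_exact₃ X hS y (zero_add 1) (Ext.eq_zero_of_injective _)
    exact ⟨Ext.addEquiv₀ x, (congrArg ((Ext.mk₀ S.g).postcomp X (add_zero 0))
      (Ext.addEquiv₀.symm_apply_apply x)).trans hx⟩
  · obtain ⟨x, hx⟩ := Ext.covariant_sequence_exact₂ X hS (Ext.mk₀ φ) h
    refine ⟨Ext.addEquiv₀ x, Ext.addEquiv₀.symm.injective ?_⟩
    change Ext.mk₀ (Ext.addEquiv₀ x ≫ S.f) = Ext.mk₀ φ
    rw [← Ext.mk₀_comp_mk₀, ← hx]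
    exact congrArg (fun z => z.comp (Ext.mk₀ S.f) (add_zero 0)) (Ext.mk₀_homEquiv₀_apply x)
  · rintro ⟨ψ, rfl⟩
    change (Ext.mk₀ (ψ ≫ S.f)).comp (Ext.mk₀ S.g) (add_zero 0) = 0
    rw [Ext.mk₀_comp_mk₀, Category.assoc, S.zero, comp_zero, Ext.mk₀_zero]

/-- Two surjections with the same kernel have isomorphic targets. -/
theorem nonempty_equiv {A A' B B' : Type*} [AddCommGroup A] [AddCommGroup A'] [AddCommGroup B]
    [AddCommGroup B'] (f : A →+ B) (g : A' →+ B') (hf : Function.Surjective f)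
    (hg : Function.Surjective g) (e : A ≃+ A') (h : ∀ a, f a = 0 ↔ g (e a) = 0) :
    Nonempty (B ≃+ B') := by
  refine ⟨((QuotientAddGroup.quotientKerEquivOfSurjective f hf).symm.trans
    (QuotientAddGroup.congr f.ker g.ker e ?_)).trans (QuotientAddGroup.quotientKerEquivOfSurjective g hg)⟩
  ext a
  constructor
  · rintro ⟨x, hx, rfl⟩
    exact (h x).1 hx
  · intro ha
    exact ⟨e.symm a, (h _).2 (by rw [e.apply_symm_apply]; exact ha), e.apply_symm_apply a⟩

end Groth.Agent.Lib.FppfMu.Shift
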