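import Groth.Agent.Lib.FppfMu.Ext
import Groth.Agent.Lib.FppfMu.Pow
import Groth.Agent.Lib.FppfMu.Shift
import Groth.Agent.Lib.FppfGm.Acyclic

/-!
# Flat cohomology of the kernel of an epimorphism with etale-injective restriction
-/

set_option autoImplicit false

universe u

open CategoryTheory CategoryTheory.Limits AlgebraicGeometry Opposite CategoryTheory.Abelian

noncomputable section

namespace Groth.Agent.Lib.FppfMu.Main

open Groth.Agent.Lib.FppfEt Groth.Agent.Lib.FppfEt.LocAcyclic

variable {X : Scheme.{u}} [EtFppf.ACont X]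

instance aPush_additive : (EtFppf.aPush X).Additive := ⟨rfl⟩

theorem preservesFiniteLimits_aPush : PreservesFiniteLimits (EtFppf.aPush X) :=
  have : PreservesLimitsOfSize.{0, 0} (EtFppf.aPush X) :=
    (EtFppf.aAdj X).rightAdjoint_preservesLimits
  PreservesLimitsOfSize.preservesFiniteLimits _

theorem injective_push (I : EtFppf.AbF X) [Injective I] : Injective ((EtFppf.aPush X).obj I) :=
  haveI : BigSite.AEtCont Scheme.fppfPrecoverage X := ‹EtFppf.ACont X›
  have : (EtFppf.aPull X).PreservesMonomorphisms := EtGerm.Unit.preservesMonomorphisms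
    Scheme.fppfPrecoverage BigSite.etalePrecoverage_le_fppfPrecoverage
    Scheme.fppfPrecoverage_le_fpqcPrecoverage
  Injective.injective_of_adjoint (EtFppf.aAdj X) I

/-- Etale-locally surjective morphisms restrict to epimorphisms. -/
theorem epi_push {A B : EtFppf.AbF X} (φ : A ⟶ B) (h : EtSurj φ) : Epi ((EtFppf.aPush X).map φ) := by
  have : Sheaf.IsLocallySurjective ((EtFppf.aPush X).map φ) := ⟨fun {U} y => by
    refine (EtSite.Basic.mem_topology_iff _).2 fun u => ?_
    obtain ⟨T', g, hg, ⟨v, hv⟩, i, hi⟩ := h ((EtFppf.a X).obj U) y u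
    let g₀ : T'.left ⟶ U.left := g.left
    have : Etale g₀ := hg
    have : Etale U.hom := U.prop
    have hT : Etale T'.hom := by
      have e : g₀ ≫ U.hom = T'.hom := Over.w g
      exact e ▸ (inferInstance : Etale (g₀ ≫ U.hom))
    let V : X.Etale := Scheme.Etale.mk T'.hom
    let q : V ⟶ U := MorphismProperty.Over.homMk g₀ (Over.w g)
    exact ⟨V, q, ⟨i, hi⟩, v, hv⟩⟩
  exact (Sheaf.isLocallySurjective_iff_epi' _ _).1 this

theorem pull_exact {S : ShortComplex (EtFppf.AbF X)} (hS : S.ShortExact) :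
    (S.map (EtFppf.aPush X)).Exact ∧ Mono ((EtFppf.aPush X).map S.f) := by
  have := preservesFiniteLimits_aPush (X := X)
  have := hS.mono_f
  exact ⟨(hS.exact.map_of_mono_of_preservesKernel _ ‹_› inferInstance), inferInstance⟩

variable {G : EtFppf.AbF X} (q : G ⟶ G)

/-- The data: an injective hull, the quotient by the kernel of `q` and the induced maps. -/
theorem exists_data [Epi q] (hG : LA G) [Mono ((EtFppf.aPush X).map q)] :
    ∃ (I K : EtFppf.AbF X) (m : kernel q ⟶ I) (π : I ⟶ K) (w : m ≫ π = 0), Injective I ∧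
      (ShortComplex.mk m π w).ShortExact ∧ LA K ∧ Mono ((EtFppf.aPush X).map π) ∧
      Nonempty (cokernel ((EtFppf.aPush X).map π) ≅ cokernel ((EtFppf.aPush X).map q)) := by
  have : HasInjectiveResolutions (EtFppf.AbF X) := inferInstance
  let I := Injective.under G
  let ι : G ⟶ I := Injective.ι G
  let m : kernel q ⟶ I := kernel.ι q ≫ ι
  let K := cokernel m
  let π : I ⟶ K := cokernel.π m
  let ρ : I ⟶ cokernel ι := cokernel.π ι
  let j : G ⟶ K := Abelian.epiDesc q (ι ≫ π)
    ((Category.assoc _ _ _).symm.trans (cokernel.condition m))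
  have hj : q ≫ j = ι ≫ π := Abelian.comp_epiDesc _ _ _
  let r : K ⟶ cokernel ι := cokernel.desc m ρ (by simp [m, ρ])
  have hr : π ≫ r = ρ := cokernel.π_desc _ _ _
  have hjr : j ≫ r = 0 := by
    rw [← cancel_epi q, ← Category.assoc, hj, Category.assoc, hr, comp_zero]
    exact cokernel.condition ι
  have hS₁ : (ShortComplex.mk ι ρ (cokernel.condition ι)).ShortExact :=
    { exact := ShortComplex.exact_of_g_is_cokernel _ (cokernelIsCokernel ι) }
  have hS₂ : (ShortComplex.mk j r hjr).ShortExact :=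
    { exact := by
        rw [ShortComplex.exact_iff_exact_up_to_refinements]
        intro A x hx
        obtain ⟨A', p, hp, i, hi⟩ := surjective_up_to_refinements_of_epi π x
        have hi0 : i ≫ ρ = 0 := by
          rw [← hr, ← Category.assoc, ← hi, Category.assoc]
          exact (congrArg (p ≫ ·) hx).trans comp_zero
        refine ⟨A', p, hp, Abelian.monoLift ι i hi0 ≫ q, ?_⟩
        rw [Category.assoc, hj, ← Category.assoc, Abelian.monoLift_comp, hi]
      mono_f := by
        rw [Preadditive.mono_iff_cancel_zero]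
        intro A x hx
        obtain ⟨A', p, hp, y, hy⟩ := surjective_up_to_refinements_of_epi q x
        have h0 : (y ≫ ι) ≫ π = 0 := by
          rw [Category.assoc, ← hj, ← Category.assoc, ← hy, Category.assoc, hx, comp_zero]
        have : Mono m := mono_comp _ _
        let z := Abelian.monoLift m (y ≫ ι) h0
        have hz : z ≫ kernel.ι q = y := by
          rw [← cancel_mono ι, Category.assoc]
          exact Abelian.monoLift_comp _ _ _
        rw [← cancel_epi p, hy, ← hz, Category.assoc, kernel.condition, comp_zero, comp_zero]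
      epi_g := epi_of_epi_fac hr }
  have hρ : EtSurj ρ := etSurj_of_LA hS₁ hG
  have hrsurj : EtSurj r := fun T x t => by
    obtain ⟨T', g, hg, ht, i, hi⟩ := hρ T x t
    refine ⟨T', g, hg, ht, π.hom.app (op T') i, ?_⟩
    exact (ConcreteCategory.congr_hom (congrArg (fun m => m.hom.app (op T')) hr) i).trans hi
  have hQ : LA (cokernel ι) :=
    @LA_of _ (ShortComplex.mk ι ρ (cokernel.condition ι)) hS₁ (inferInstanceAs (Injective I)) hG
  have hK : LA K := Ext.LA_extension hS₂ hrsurj hG hQ
  have : Mono m := mono_comp _ _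
  have hS : (ShortComplex.mk m π (cokernel.condition m)).ShortExact :=
    { exact := ShortComplex.exact_of_g_is_cokernel _ (cokernelIsCokernel m) }
  let a := EtFppf.aPush X
  obtain ⟨hex₁, hm₁⟩ := pull_exact hS₁
  obtain ⟨hex₂, hm₂⟩ := pull_exact hS₂
  obtain ⟨hex, -⟩ := pull_exact hS
  have hzero : a.map m = 0 := by
    have h0 : a.map (kernel.ι q) = 0 := by
      rw [← cancel_mono (a.map q), ← a.map_comp, kernel.condition, a.map_zero, zero_comp]
    rw [a.map_comp, h0, zero_comp]
  have hmono : Mono (a.map π) := hex.mono_g hzero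
  refine ⟨I, K, m, π, cokernel.condition m, inferInstance, hS, hK, hmono, ⟨?_⟩⟩
  have heρ : Epi (a.map ρ) := epi_push ρ hρ
  let ψ : a.obj G ⟶ cokernel (a.map π) := a.map j ≫ cokernel.π (a.map π)
  have hqψ : a.map q ≫ ψ = 0 := by
    rw [← Category.assoc, ← a.map_comp, hj, a.map_comp, Category.assoc, cokernel.condition, comp_zero]
  have hT : (ShortComplex.mk (a.map q) ψ hqψ).Exact := by
    rw [ShortComplex.exact_iff_exact_up_to_refinements]
    intro A x hx
    obtain ⟨A', p, hp, i, hi⟩ :=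
      (ShortComplex.exact_of_g_is_cokernel (ShortComplex.mk (a.map π) _ (cokernel.condition _))
        (cokernelIsCokernel _)).exact_up_to_refinements (x ≫ a.map j) (by
          rw [Category.assoc]; exact hx)
    change p ≫ x ≫ a.map j = i ≫ a.map π at hi
    have hi0 : i ≫ a.map ρ = 0 := by
      rw [← hr, a.map_comp, ← Category.assoc, ← hi, Category.assoc, Category.assoc, ← a.map_comp, hjr,
        a.map_zero, comp_zero, comp_zero]
    obtain ⟨A'', p', hp', g, hg⟩ := hex₁.exact_up_to_refinements i hi0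
    change A'' ⟶ a.obj G at g
    change p' ≫ i = g ≫ a.map ι at hg
    refine ⟨A'', p' ≫ p, epi_comp _ _, g, ?_⟩
    have : Mono (a.map j) := hm₂
    change (p' ≫ p) ≫ x = g ≫ a.map q
    rw [← cancel_mono (a.map j), Category.assoc, Category.assoc, hi, ← Category.assoc, hg,
      Category.assoc, ← a.map_comp, ← hj, a.map_comp, Category.assoc]
  have hψ : Epi ψ := by
    rw [epi_iff_surjective_up_to_refinements]
    intro A y
    obtain ⟨A₁, p₁, hp₁, x, hx⟩ := surjective_up_to_refinements_of_epi (cokernel.π (a.map π)) y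
    obtain ⟨A₂, p₂, hp₂, i, hi⟩ := surjective_up_to_refinements_of_epi (a.map ρ) (x ≫ a.map r)
    have hker : (p₂ ≫ x - i ≫ a.map π) ≫ a.map r = 0 := by
      rw [Preadditive.sub_comp, Category.assoc, Category.assoc, hi, ← a.map_comp, hr, sub_self]
    obtain ⟨A₃, p₃, hp₃, g, hg⟩ := hex₂.exact_up_to_refinements _ hker
    change A₃ ⟶ a.obj G at g
    change p₃ ≫ (p₂ ≫ x - i ≫ a.map π) = g ≫ a.map j at hg
    refine ⟨A₃, p₃ ≫ p₂ ≫ p₁, inferInstance, g, ?_⟩
    change _ = g ≫ a.map j ≫ cokernel.π (a.map π)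
    rw [← Category.assoc g, ← hg]
    simp [hx]
  exact ((cokernelIsCokernel (a.map q)).coconePointUniqueUpToIso hT.gIsCokernel).symm

/-- Homomorphisms out of the constant sheaves. -/
def homEquiv (B : EtFppf.AbF X) :
    ((constantSheaf (EtFppf.J X) AddCommGrpCat.{u + 1}).obj (AddCommGrpCat.of (ULift.{u + 1} ℤ)) ⟶ B) ≃+
      ((constantSheaf X.smallEtaleTopology AddCommGrpCat.{u + 1}).obj
        (AddCommGrpCat.of (ULift.{u + 1} ℤ)) ⟶ (EtFppf.aPush X).obj B) :=
  haveI : BigSite.AEtCont Scheme.fppfPrecoverage X := ‹EtFppf.ACont X›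
  haveI : (EtFppf.aPull X).Additive := (EtFppf.aAdj X).left_adjoint_additive
  let i := (BigEt.Compare.pullConstIso.{u + 1} (EtFppf.a X) X.smallEtaleTopology
    (QuotSh.J Scheme.fppfPrecoverage X) (EtCore.topIsTerminal X) Over.mkIdTerminal).app
      (AddCommGrpCat.of (ULift.{u + 1} ℤ))
  AddEquiv.mk' (i.homFromEquiv.symm.trans ((EtFppf.aAdj X).homEquiv _ B))
    fun f g => by
      change (EtFppf.aAdj X).homEquiv _ _ (i.hom ≫ (f + g)) =
        (EtFppf.aAdj X).homEquiv _ _ (i.hom ≫ f) + (EtFppf.aAdj X).homEquiv _ _ (i.hom ≫ g)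
      rw [Preadditive.comp_add]
      exact (EtFppf.aAdj X).homAddEquiv_add _ _ _ _

theorem homEquiv_comp {B B' : EtFppf.AbF X}
    (φ : (constantSheaf (EtFppf.J X) AddCommGrpCat.{u + 1}).obj (AddCommGrpCat.of (ULift.{u + 1} ℤ)) ⟶ B)
    (g : B ⟶ B') : homEquiv B' (φ ≫ g) = homEquiv B φ ≫ (EtFppf.aPush X).map g := by
  change (EtFppf.aAdj X).homEquiv _ _ (_ ≫ φ ≫ g) = (EtFppf.aAdj X).homEquiv _ _ (_ ≫ φ) ≫ _
  rw [← Category.assoc, Adjunction.homEquiv_naturality_right]

/-- The comparison. -/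
theorem nonempty_H [Epi q] (hG : LA G) [Mono ((EtFppf.aPush X).map q)] (n : ℕ) :
    Nonempty (EtFppf.HF X (kernel q) (n + 1) ≃+ EtCoh.H X (cokernel ((EtFppf.aPush X).map q)) n) := by
  haveI : BigSite.AEtCont Scheme.fppfPrecoverage X := ‹EtFppf.ACont X›
  obtain ⟨I, K, m, π, w, hI, hS, hK, hmono, ⟨e⟩⟩ := exists_data q hG
  have := injective_push I
  have hSe : (ShortComplex.mk ((EtFppf.aPush X).map π) (cokernel.π _) (cokernel.condition _)).ShortExact :=
    { exact := ShortComplex.exact_of_g_is_cokernel _ (cokernelIsCokernel _) }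
  suffices h : Nonempty (EtFppf.HF X (kernel q) (n + 1) ≃+
      EtCoh.H X (cokernel ((EtFppf.aPush X).map π)) n) by
    obtain ⟨h⟩ := h
    exact ⟨h.trans ((EtCoh.HF X n).mapIso e).addCommGroupIsoToAddEquiv⟩
  cases n with
  | zero =>
    obtain ⟨f, hf, hf0⟩ := Shift.first hS _
    obtain ⟨g, hg, hg0⟩ := Shift.zeroth hSe _
    refine Shift.nonempty_equiv f g hf hg (homEquiv K) fun φ => (hf0 φ).trans (Iff.trans ?_ (hg0 _).symm)
    constructor
    · rintro ⟨ψ, rfl⟩
      exact ⟨homEquiv I ψ, (homEquiv_comp ψ π).symm⟩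
    · rintro ⟨ψ, hψ⟩
      refine ⟨(homEquiv I).symm ψ, (homEquiv K).injective ((homEquiv_comp _ π).trans ?_)⟩
      rw [(homEquiv I).apply_symm_apply]
      exact hψ
  | succ n =>
    obtain ⟨e₁⟩ := Shift.middle_injective hS
      ((constantSheaf (EtFppf.J X) AddCommGrpCat.{u + 1}).obj (AddCommGrpCat.of (ULift.{u + 1} ℤ))) n
    obtain ⟨e₂⟩ := FppfGm.Coh.nonempty_H (injectiveResolution K)
      (Resolution.locSurj_stage _ hK) (n + 1)
    obtain ⟨e₃⟩ := Shift.left_injective hSe
      ((constantSheaf X.smallEtaleTopology AddCommGrpCat.{u + 1}).obj (AddCommGrpCat.of (ULift.{u + 1} ℤ))) n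
    exact ⟨e₁.symm.trans (e₂.symm.trans e₃)⟩

end Groth.Agent.Lib.FppfMu.Main
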